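import Cfsg.Agent.Lib.JankoThree.ColsData
import Cfsg.Agent.Lib.JankoThree.Isometry

/-!
The constituents of the two short functions of norm three.
-/

set_option autoImplicit false
set_option maxRecDepth 10000

namespace CfsgLib.JankoThree

universe u

/-- One constituent: signed degree `x` with squared value `p.1` at the involution and residue
`p.2` modulo `128`. -/
def Side (N : ℕ) (p : ℕ × ℕ) (x : ℤ) : Prop :=
  (128 : ℤ) ∣ x - (p.2 : ℤ) ∧ (p.1 : ℤ) < x ^ 2 ∧ x ∣ (N : ℤ) ∧ x ^ 2 ≤ (N : ℤ)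

theorem sum7_eq (f : Fin 7 → ℤ) : sum7 f = ∑ i, f i := by
  simp [sum7, Fin.sum_univ_seven]

theorem coord_map (f : Fin 7 → ℤ) (i : Fin 7) :
    coord ((List.finRange 7).map f) i = f i := by
  fin_cases i <;> rfl

theorem list_map_finRange (v : Fin 7 → ℤ) :
    (List.finRange 7).map v = [v 0, v 1, v 2, v 3, v 4, v 5, v 6] := rfl

theorem mem_goodVec (k : Fin 2) (v : Fin 7 → ℤ)
    (h : ∀ i, |v i| < (![2, 2, 2, 2, 3, 3, 3] i)) (hk : v (idx k) = 1)
    (hok : okVec [v 0, v 1, v 2, v 3, v 4, v 5, v 6] = true) :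
    (List.finRange 7).map v ∈ goodVec k := by
  have h0 := abs_lt.1 (h 0); have h1 := abs_lt.1 (h 1); have h2 := abs_lt.1 (h 2)
  have h3 := abs_lt.1 (h 3); have h4 := abs_lt.1 (h 4); have h5 := abs_lt.1 (h 5)
  have h6 := abs_lt.1 (h 6)
  simp only [Matrix.cons_val_zero, Matrix.cons_val_one, Matrix.cons_val] at h0 h1 h2 h3 h4 h5 h6
  rw [list_map_finRange]
  fin_cases k
  · have hk' : v 2 = 1 := hk
    rw [show goodVec (⟨0, by norm_num⟩ : Fin 2) = goodVec 0 from rfl, ← goodVec_two,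
      List.mem_filter]
    refine ⟨?_, hok⟩
    rw [show keep 2 = [[-1, 0, 1], [-1, 0, 1], [1], [-1, 0, 1], [-2, -1, 0, 1, 2],
      [-2, -1, 0, 1, 2], [-2, -1, 0, 1, 2]] from rfl]
    simp only [allVec, List.mem_flatMap, List.mem_map, List.mem_cons, List.not_mem_nil, or_false]
    refine ⟨[v 1, v 2, v 3, v 4, v 5, v 6], ⟨[v 2, v 3, v 4, v 5, v 6], ⟨[v 3, v 4, v 5, v 6],
      ⟨[v 4, v 5, v 6], ⟨[v 5, v 6], ⟨[v 6], ⟨[], rfl, v 6, ?_, rfl⟩, v 5, ?_, rfl⟩,
        v 4, ?_, rfl⟩, v 3, ?_, rfl⟩, v 2, ?_, rfl⟩, v 1, ?_, rfl⟩, v 0, ?_, rfl⟩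
    all_goals omega
  · have hk' : v 3 = 1 := hk
    rw [show goodVec (⟨1, by norm_num⟩ : Fin 2) = goodVec 1 from rfl, ← goodVec_three,
      List.mem_filter]
    refine ⟨?_, hok⟩
    rw [show keep 3 = [[-1, 0, 1], [-1, 0, 1], [-1, 0, 1], [1], [-2, -1, 0, 1, 2],
      [-2, -1, 0, 1, 2], [-2, -1, 0, 1, 2]] from rfl]
    simp only [allVec, List.mem_flatMap, List.mem_map, List.mem_cons, List.not_mem_nil, or_false]
    refine ⟨[v 1, v 2, v 3, v 4, v 5, v 6], ⟨[v 2, v 3, v 4, v 5, v 6], ⟨[v 3, v 4, v 5, v 6],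
      ⟨[v 4, v 5, v 6], ⟨[v 5, v 6], ⟨[v 6], ⟨[], rfl, v 6, ?_, rfl⟩, v 5, ?_, rfl⟩,
        v 4, ?_, rfl⟩, v 3, ?_, rfl⟩, v 2, ?_, rfl⟩, v 1, ?_, rfl⟩, v 0, ?_, rfl⟩
    all_goals omega

namespace Numeric

variable {N : ℕ} {ι : Type u} [Fintype ι] (D : Numeric N ι)

theorem abs_v_lt (χ : ι) (hχ : χ ≠ D.one) (i : Fin 7) :
    |D.v i χ| < (![2, 2, 2, 2, 3, 3, 3] i) := by
  classical
  have h := D.gram_eq i i
  rw [← Finset.add_sum_erase _ _ (Finset.mem_univ D.one), D.v_one] at h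
  have h1 : D.v i χ * D.v i χ ≤ ∑ ψ ∈ Finset.univ.erase D.one, D.v i ψ * D.v i ψ :=
    Finset.single_le_sum (f := fun ψ => D.v i ψ * D.v i ψ) (fun ψ _ => mul_self_nonneg _)
      (by simp [hχ])
  have h2 := bound_check i
  have h3 : (0 : ℤ) < ![2, 2, 2, 2, 3, 3, 3] i := by fin_cases i <;> norm_num
  exact abs_lt_of_sq_lt_sq (by nlinarith) h3.le

theorem okVec_col (χ : ι) (hχ : χ ≠ D.one) (s : ℤ) (hs : s * s = 1) :
    okVec [s * D.v 0 χ, s * D.v 1 χ, s * D.v 2 χ, s * D.v 3 χ, s * D.v 4 χ, s * D.v 5 χ,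
      s * D.v 6 χ] = true := by
  classical
  simp only [okVec, decide_eq_true_eq]
  set u : Fin 7 → ℤ := fun i => s * D.v i χ with hu
  set c : Fin 7 → ℤ := fun i => ∑ j, adjG i j * u j with hc
  have hq : dot [u 0, u 1, u 2, u 3, u 4, u 5, u 6]
      (adjRows.map (dot [u 0, u 1, u 2, u 3, u 4, u 5, u 6])) = ∑ i, u i * c i := by
    simp [dot, adjRows, hc, Fin.sum_univ_seven, adjG]
    ring
  show 0 ≤ dot [u 0, u 1, u 2, u 3, u 4, u 5, u 6] _ ∧ _ ≤ (2208 : ℤ)
  rw [hq]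
  suffices hmain : (∑ i, u i * c i) * (∑ i, u i * c i) ≤ 2208 * ∑ i, u i * c i from
    ⟨by nlinarith [mul_self_nonneg (∑ i, u i * c i)], by nlinarith [mul_self_nonneg (∑ i, u i * c i)]⟩
  have hrow : ∀ i, ∑ j, gram i j * c j = 2208 * u i + vone i * ∑ j, vone j * c j := by
    intro i
    simp only [hc]
    fin_cases i <;> simp [Fin.sum_univ_seven, gram, adjG, vone] <;> ring
  have h : ∑ ψ, (∑ i, c i * D.v i ψ) ^ 2 =
      2208 * (∑ i, u i * c i) + (∑ i, c i * vone i) ^ 2 := by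
    calc ∑ ψ, (∑ i, c i * D.v i ψ) ^ 2 = ∑ i, c i * ∑ j, gram i j * c j := by
          simp only [← D.gram_eq, Finset.mul_sum, sq, Finset.sum_mul]
          rw [Finset.sum_comm]
          refine Finset.sum_congr rfl fun i _ => ?_
          rw [Finset.sum_comm]
          refine Finset.sum_congr rfl fun j _ => Finset.sum_congr rfl fun ψ _ => ?_
          ring
      _ = ∑ i, (2208 * (u i * c i) + (c i * vone i) * ∑ j, c j * vone j) := by
          refine Finset.sum_congr rfl fun i _ => ?_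
          rw [hrow, show ∑ j, vone j * c j = ∑ j, c j * vone j from
            Finset.sum_congr rfl fun j _ => mul_comm _ _]
          ring
      _ = _ := by rw [Finset.sum_add_distrib, ← Finset.mul_sum, ← Finset.sum_mul, sq]
  rw [← Finset.add_sum_erase _ _ (Finset.mem_univ D.one)] at h
  simp only [D.v_one] at h
  have h1 : (∑ i, c i * D.v i χ) ^ 2 ≤ ∑ ψ ∈ Finset.univ.erase D.one, (∑ i, c i * D.v i ψ) ^ 2 :=
    Finset.single_le_sum (f := fun ψ => (∑ i, c i * D.v i ψ) ^ 2) (fun ψ _ => sq_nonneg _)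
      (by simp [hχ])
  have e : ∑ i, u i * c i = s * ∑ i, c i * D.v i χ := by
    rw [Finset.mul_sum]; exact Finset.sum_congr rfl fun i _ => by simp only [hu]; ring
  have e2 : (∑ i, u i * c i) * (∑ i, u i * c i) = (∑ i, c i * D.v i χ) ^ 2 := by
    rw [e]; linear_combination (∑ i, c i * D.v i χ) ^ 2 * hs
  rw [e2]
  linarith

include D in
theorem sum_three (k : Fin 2) : ∃ d ∈ dataOf k, ∃ x y z : ℤ,
    Side N d.1 x ∧ Side N d.2.1 y ∧ Side N d.2.2 z ∧ x + y + z = -vone (idx k) ∧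
    (N : ℚ) * ((vone (idx k) : ℚ) * (∑ i, tCoef i * vone i : ℤ) ^ 2 + (d.1.1 : ℚ) / x +
      (d.2.1.1 : ℚ) / y + (d.2.2.1 : ℚ) / z) = 1920 * (wPairs (idx k) : ℚ) := by
  classical
  set i := idx k with hi
  have h33 : gram i i - vone i ^ 2 = 3 := by rw [hi]; fin_cases k <;> decide +kernel
  have hb : (![2, 2, 2, 2, 3, 3, 3] i : ℤ) = 2 := by rw [hi]; fin_cases k <;> rfl
  set S := (Finset.univ.erase D.one).filter fun χ => D.v i χ ≠ 0 with hS
  have hsq : ∀ χ ∈ S, D.v i χ * D.v i χ = 1 := by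
    intro χ hχ
    simp only [hS, Finset.mem_filter, Finset.mem_erase] at hχ
    have := D.abs_v_lt χ hχ.1.1 i
    rw [hb] at this
    have := abs_lt.1 this
    have : D.v i χ = 1 ∨ D.v i χ = -1 := by omega
    rcases this with e | e <;> rw [e] <;> norm_num
  have hsum : ∀ F : ι → ℤ, ∑ χ, D.v i χ * F χ = vone i * F D.one + ∑ χ ∈ S, D.v i χ * F χ := by
    intro F
    rw [← Finset.add_sum_erase _ _ (Finset.mem_univ D.one), D.v_one, hS]
    refine congrArg _ (Finset.sum_filter_of_ne ?_).symm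
    intro χ _ h e
    exact h (by simp [e])
  have hcard : S.card = 3 := by
    have h := hsum (D.v i)
    rw [D.gram_eq, D.v_one, Finset.sum_congr rfl hsq, Finset.sum_const, nsmul_one] at h
    have : (S.card : ℤ) = 3 := by rw [← h33, sq]; linarith
    exact_mod_cast this
  obtain ⟨a, b, c, hab, hac, hbc, hSabc⟩ := Finset.card_eq_three.1 hcard
  have hmem : a ∈ S ∧ b ∈ S ∧ c ∈ S := by simp [hSabc]
  have hne : ∀ χ ∈ S, χ ≠ D.one := fun χ hχ => by
    simp only [hS, Finset.mem_filter, Finset.mem_erase] at hχ; exact hχ.1.1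
  let V : ι → Vec := fun χ => (List.finRange 7).map fun j => D.v i χ * D.v j χ
  have hV : ∀ χ ∈ S, V χ ∈ goodVec k := by
    intro χ hχ
    refine mem_goodVec k _ (fun j => ?_) (hsq χ hχ) (D.okVec_col χ (hne χ hχ) _ (hsq χ hχ))
    rcases mul_self_eq_one_iff.1 (hsq χ hχ) with h | h <;> rw [h] <;>
      simpa using D.abs_v_lt χ (hne χ hχ) j
  have h3 : ∀ j, gram i j = vone i * vone j + (D.v i a * D.v j a + (D.v i b * D.v j b +
      D.v i c * D.v j c)) := by
    intro j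
    have h := hsum (D.v j)
    rw [D.gram_eq, D.v_one, hSabc, Finset.sum_insert (by simp [hab, hac]),
      Finset.sum_pair hbc] at h
    exact h
  have hthird : vsub (vsub (redRow k) (V a)) (V b) = V c := by
    have hrow : redRow k = (List.finRange 7).map fun j => gram i j - vone i * vone j := by
      rw [hi]; fin_cases k <;> rfl
    rw [hrow]
    simp only [V, list_map_finRange, vsub, List.cons.injEq, and_true]
    have e : ∀ a b : ℤ, Int.sub a b = a - b := fun _ _ => rfl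
    refine ⟨?_, ?_, ?_, ?_, ?_, ?_, ?_⟩ <;> (rw [e, e, h3]; ring)
  have hchk := triples_check k
  simp only [List.all_eq_true] at hchk
  have hd := hchk _ (hV a hmem.1)
  simp only [triCheck, List.all_eq_true] at hd
  have hd := hd _ (hV b hmem.2.1)
  rw [hthird, hasKey_of_mem (keys_eq k ▸ List.mem_map_of_mem (f := key) (hV c hmem.2.2))] at hd
  simp only [List.any_eq_true, List.contains_iff_mem] at hd
  obtain ⟨d, hdmem, hdeq⟩ := hd
  simp only [List.mem_cons, List.not_mem_nil, or_false] at hdeq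
  let x : ι → ℤ := fun χ => D.v i χ * (D.f χ : ℤ)
  have hside : ∀ χ ∈ S, Side N (datum (V χ)) (x χ) := by
    intro χ hχ
    have h1 := hsq χ hχ
    have er : dot [18, 18, -5, -7, -63, 43, 6] (V χ) = ∑ j, resCoef j * (D.v i χ * D.v j χ) := by
      simp only [V, list_map_finRange, dot, Fin.sum_univ_seven, resCoef, Matrix.cons_val]
      simp only [Int.add_def, Int.mul_def]
      ring
    have et : dot [2, 2, 11, 9, -15, -5, -10] (V χ) = ∑ j, tCoef j * (D.v i χ * D.v j χ) := by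
      simp only [V, list_map_finRange, dot, Fin.sum_univ_seven, tCoef, Matrix.cons_val]
      simp only [Int.add_def, Int.mul_def]
      ring
    refine ⟨?_, ?_, ?_, ?_⟩
    · obtain ⟨m, hm⟩ := D.f_res χ
      have hnn : (0 : ℤ) ≤ (∑ j, resCoef j * (D.v i χ * D.v j χ)) % 128 :=
        Int.emod_nonneg _ (by norm_num)
      simp only [datum, er, Int.toNat_of_nonneg hnn]
      rw [show ∑ j, resCoef j * (D.v i χ * D.v j χ) =
          D.v i χ * ∑ j, resCoef j * D.v j χ by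
        rw [Finset.mul_sum]; exact Finset.sum_congr rfl fun j _ => by ring]
      have hx : x χ = D.v i χ * (∑ j, resCoef j * D.v j χ) + 128 * (D.v i χ * m) := by
        simp only [x]
        have hf : (D.f χ : ℤ) = ∑ j, resCoef j * D.v j χ + 128 * m := by linarith
        rw [hf]; ring
      rw [hx]
      omega
    · simp only [datum, et, Nat.cast_pow, Int.natCast_natAbs, sq_abs, x]
      rw [show ∑ j, tCoef j * (D.v i χ * D.v j χ) = D.v i χ * D.T χ by
        rw [D.T_eq, Finset.mul_sum]; exact Finset.sum_congr rfl fun j _ => by ring]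
      rw [mul_pow, mul_pow, sq (D.v i χ), h1, one_mul, one_mul]
      exact sq_lt_sq.2 (by simpa using D.f_gt χ (hne χ hχ))
    · obtain ⟨m, hm⟩ := Int.natCast_dvd_natCast.2 (D.f_dvd χ)
      exact ⟨D.v i χ * m, by simp only [x]; rw [hm]; linear_combination (-(D.f χ : ℤ) * m) * h1⟩
    · simp only [x, mul_pow]; rw [sq (D.v i χ), h1, one_mul]; exact_mod_cast D.f_sq χ
  have hdeg : x a + x b + x c = -vone i := by
    have h := hsum fun χ => (D.f χ : ℤ)
    rw [D.deg, hSabc, Finset.sum_insert (by simp [hab, hac]), Finset.sum_pair hbc, D.f_one] at h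
    simp only [x]; push_cast at h; linarith
  have hT : D.T D.one = ∑ j, tCoef j * vone j := by simp [D.T_eq, D.v_one]
  have hq : ∀ χ ∈ S, ((D.v i χ : ℚ) * (D.T χ : ℚ) ^ 2 / (D.f χ : ℚ)) =
      ((datum (V χ)).1 : ℚ) / (x χ : ℚ) := by
    intro χ hχ
    have h1 : ((D.v i χ : ℚ)) * (D.v i χ : ℚ) = 1 := by exact_mod_cast hsq χ hχ
    have et : dot [2, 2, 11, 9, -15, -5, -10] (V χ) = ∑ j, tCoef j * (D.v i χ * D.v j χ) := by
      simp only [V, list_map_finRange, dot, Fin.sum_univ_seven, tCoef, Matrix.cons_val]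
      simp only [Int.add_def, Int.mul_def]
      ring
    simp only [datum, et, x]
    rw [show ∑ j, tCoef j * (D.v i χ * D.v j χ) = D.v i χ * D.T χ by
      rw [D.T_eq, Finset.mul_sum]; exact Finset.sum_congr rfl fun j _ => by ring]
    rw [show (((D.v i χ * D.T χ).natAbs ^ 2 : ℕ) : ℚ) = (((D.v i χ * D.T χ) ^ 2 : ℤ) : ℚ) by
      rw [← Int.cast_natCast, Nat.cast_pow, Int.natCast_natAbs, sq_abs]]
    push_cast
    rw [mul_pow, sq (D.v i χ : ℚ), h1, one_mul]
    rcases mul_self_eq_one_iff.1 (hsq χ hχ) with h | h <;> rw [h] <;> push_cast <;> ring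
  have heq : (N : ℚ) * ((vone i : ℚ) * (∑ j, tCoef j * vone j : ℤ) ^ 2 +
      ((datum (V a)).1 : ℚ) / (x a : ℚ) + ((datum (V b)).1 : ℚ) / (x b : ℚ) +
      ((datum (V c)).1 : ℚ) / (x c : ℚ)) = 1920 * (wPairs i : ℚ) := by
    rw [← D.eqn i, ← Finset.add_sum_erase _ _ (Finset.mem_univ D.one), D.v_one, D.f_one, hT,
      ← hq a hmem.1, ← hq b hmem.2.1, ← hq c hmem.2.2]
    rw [show ∑ χ ∈ Finset.univ.erase D.one, (D.v i χ : ℚ) * (D.T χ : ℚ) ^ 2 / (D.f χ : ℚ) =
      ∑ χ ∈ S, (D.v i χ : ℚ) * (D.T χ : ℚ) ^ 2 / (D.f χ : ℚ) by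
        rw [hS]
        refine (Finset.sum_filter_of_ne ?_).symm
        intro χ _ h e
        exact h (by simp [e])]
    rw [hSabc, Finset.sum_insert (by simp [hab, hac]), Finset.sum_pair hbc]
    push_cast
    ring
  have sa := hside a hmem.1
  have sb := hside b hmem.2.1
  have sc := hside c hmem.2.2
  rcases hdeq with rfl | rfl | rfl | rfl | rfl | rfl
  · exact ⟨_, hdmem, _, _, _, sa, sb, sc, hdeg, heq⟩
  · exact ⟨_, hdmem, _, _, _, sa, sc, sb, by linarith, by rw [← heq]; ring⟩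
  · exact ⟨_, hdmem, _, _, _, sb, sa, sc, by linarith, by rw [← heq]; ring⟩
  · exact ⟨_, hdmem, _, _, _, sb, sc, sa, by linarith, by rw [← heq]; ring⟩
  · exact ⟨_, hdmem, _, _, _, sc, sa, sb, by linarith, by rw [← heq]; ring⟩
  · exact ⟨_, hdmem, _, _, _, sc, sb, sa, by linarith, by rw [← heq]; ring⟩

end Numeric

end CfsgLib.JankoThree
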