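import Cfsg.Agent.Lib.JankoThree.Checks

/-!
The possible triples of constituents of the two short functions of norm three.
-/

set_option autoImplicit false
set_option maxRecDepth 100000
set_option Elab.async false

namespace CfsgLib.JankoThree

universe u

/-- Squared value at the involution and residue of the degree, for each of three constituents. -/
abbrev Datum := (ℕ × ℕ) × (ℕ × ℕ) × (ℕ × ℕ)

/-- The adjugate of the reduced Gram matrix. -/
def adjG : Fin 7 → Fin 7 → ℤ :=
  ![![1060, -44, -304, 492, 156, -264, -172],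
    ![-44, 1060, -304, 492, 156, -264, -172],
    ![-304, -304, 1312, -816, -528, 384, 16],
    ![492, 492, -816, 1524, 564, -360, -84],
    ![156, 156, -528, 564, 852, -168, 108],
    ![-264, -264, 384, -360, -168, 624, 72],
    ![-172, -172, 16, -84, 108, 72, 532]]

/-- The data for the third function. -/
def dataThree : List Datum := [
    ((1, 1), (1, 17), (900, 110)),
    ((1, 1), (25, 53), (676, 74)),
    ((1, 1), (36, 54), (625, 73)),
    ((1, 1), (121, 11), (400, 116)),
    ((1, 17), (16, 60), (1225, 51)),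
    ((1, 17), (36, 54), (625, 57)),
    ((1, 17), (100, 122), (441, 117)),
    ((1, 17), (121, 123), (400, 116)),
    ((1, 17), (169, 13), (324, 98)),
    ((1, 17), (225, 31), (256, 80)),
    ((1, 127), (4, 78), (1225, 51)),
    ((1, 127), (9, 19), (900, 110)),
    ((1, 127), (169, 13), (400, 116)),
    ((1, 127), (225, 31), (324, 98)),
    ((4, 78), (9, 19), (961, 31)),
    ((4, 78), (121, 123), (529, 55)),
    ((4, 78), (169, 13), (441, 37)),
    ((4, 78), (256, 80), (324, 98)),
    ((9, 19), (36, 54), (529, 55)),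
    ((9, 19), (121, 11), (324, 98)),
    ((16, 60), (25, 37), (961, 31)),
    ((16, 60), (36, 86), (900, 110)),
    ((16, 60), (100, 122), (676, 74)),
    ((16, 60), (121, 11), (625, 57)),
    ((16, 60), (121, 123), (625, 73)),
    ((16, 60), (169, 13), (529, 55)),
    ((16, 60), (225, 31), (441, 37)),
    ((16, 60), (225, 79), (441, 117)),
    ((16, 60), (256, 80), (400, 116)),
    ((16, 60), (324, 98), (324, 98)),
    ((25, 37), (36, 54), (441, 37)),
    ((25, 53), (36, 86), (441, 117)),
    ((25, 53), (121, 123), (256, 80)),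
    ((36, 54), (36, 86), (400, 116)),
    ((36, 54), (81, 23), (1225, 51)),
    ((36, 54), (100, 122), (256, 80)),
    ((36, 54), (121, 123), (225, 79)),
    ((36, 86), (121, 11), (225, 31)),
    ((81, 23), (121, 123), (900, 110)),
    ((81, 23), (225, 31), (676, 74)),
    ((81, 23), (400, 116), (441, 117)),
    ((81, 103), (225, 79), (676, 74)),
    ((81, 103), (256, 80), (625, 73)),
    ((81, 103), (324, 98), (529, 55)),
    ((100, 122), (121, 11), (121, 123)),
    ((121, 11), (196, 66), (1225, 51)),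
    ((196, 66), (225, 31), (961, 31)),
    ((196, 66), (256, 80), (900, 110)),
    ((196, 66), (400, 116), (676, 74)),
    ((196, 66), (441, 117), (625, 73))]

/-- The data for the fourth function. -/
def dataFour : List Datum := [
    ((1, 127), (225, 79), (1225, 51)),
    ((1, 127), (324, 98), (1024, 32)),
    ((1, 127), (361, 99), (961, 31)),
    ((1, 127), (400, 20), (900, 110)),
    ((1, 127), (400, 116), (900, 14)),
    ((4, 18), (225, 79), (1024, 32)),
    ((4, 18), (400, 116), (729, 123)),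
    ((4, 18), (484, 38), (625, 73)),
    ((4, 18), (529, 55), (576, 56)),
    ((16, 36), (100, 42), (1225, 51)),
    ((16, 36), (196, 62), (961, 31)),
    ((16, 36), (225, 79), (900, 14)),
    ((16, 36), (324, 98), (729, 123)),
    ((16, 36), (400, 20), (625, 73)),
    ((16, 36), (400, 36), (625, 57)),
    ((16, 36), (400, 116), (625, 105)),
    ((16, 36), (441, 37), (576, 56)),
    ((16, 36), (484, 38), (529, 55)),
    ((25, 53), (144, 44), (1024, 32)),
    ((25, 53), (196, 62), (900, 14)),
    ((25, 53), (361, 99), (625, 105)),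
    ((25, 53), (400, 20), (576, 56)),
    ((25, 53), (484, 38), (484, 38)),
    ((25, 85), (81, 121), (1225, 51)),
    ((25, 85), (100, 122), (1156, 50)),
    ((25, 85), (196, 62), (900, 110)),
    ((25, 85), (361, 99), (625, 73)),
    ((25, 85), (400, 116), (576, 56)),
    ((36, 42), (400, 36), (1225, 51)),
    ((36, 42), (441, 37), (1156, 50)),
    ((36, 42), (529, 55), (1024, 32)),
    ((36, 42), (576, 56), (961, 31)),
    ((36, 42), (625, 73), (900, 14)),
    ((36, 42), (625, 105), (900, 110)),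
    ((49, 103), (49, 103), (1225, 51)),
    ((49, 103), (100, 122), (1024, 32)),
    ((49, 103), (144, 44), (900, 110)),
    ((49, 103), (225, 31), (729, 123)),
    ((49, 103), (289, 97), (625, 57)),
    ((49, 103), (324, 98), (576, 56)),
    ((49, 103), (361, 99), (529, 55)),
    ((49, 103), (400, 116), (484, 38)),
    ((81, 105), (81, 121), (961, 31)),
    ((81, 105), (100, 42), (900, 110)),
    ((81, 105), (225, 79), (625, 73)),
    ((81, 105), (289, 97), (529, 55)),
    ((81, 105), (400, 36), (400, 116)),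
    ((81, 121), (100, 122), (900, 14)),
    ((81, 121), (225, 31), (625, 105)),
    ((81, 121), (225, 79), (625, 57)),
    ((81, 121), (324, 98), (484, 38)),
    ((81, 121), (361, 99), (441, 37)),
    ((81, 121), (400, 20), (400, 116)),
    ((100, 42), (196, 30), (625, 57)),
    ((100, 42), (225, 31), (576, 56)),
    ((100, 42), (361, 99), (400, 116)),
    ((100, 122), (196, 30), (625, 105)),
    ((100, 122), (225, 79), (576, 56)),
    ((100, 122), (289, 97), (484, 38)),
    ((100, 122), (361, 99), (400, 36)),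
    ((144, 44), (196, 30), (529, 55)),
    ((144, 44), (289, 97), (400, 116)),
    ((196, 30), (196, 62), (441, 37)),
    ((196, 30), (225, 79), (400, 20)),
    ((196, 62), (225, 31), (400, 36)),
    ((196, 62), (225, 79), (400, 116)),
    ((196, 62), (289, 97), (324, 98)),
    ((225, 79), (225, 79), (361, 99))]

/-- The data of a function. -/
def dataOf : Fin 2 → List Datum := ![dataThree, dataFour]

/-- The index of a function. -/
def idx : Fin 2 → Fin 7 := ![2, 3]

/-- A coordinate vector as a list. -/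
abbrev Vec := List ℤ

/-- The bounds for the coordinates. -/
def ranges : List (List ℤ) :=
  [[-1, 0, 1], [-1, 0, 1], [-1, 0, 1], [-1, 0, 1], [-2, -1, 0, 1, 2], [-2, -1, 0, 1, 2],
    [-2, -1, 0, 1, 2]]

/-- All vectors within the bounds. -/
def allVec : List (List ℤ) → List Vec
  | [] => [[]]
  | r :: rs => (allVec rs).flatMap fun t => r.map fun x => x :: t

/-- A coordinate. -/
def coord (l : Vec) (i : Fin 7) : ℤ := l.getD i.val 0

/-- Sum over seven coordinates. -/
def sum7 (f : Fin 7 → ℤ) : ℤ := f 0 + f 1 + f 2 + f 3 + f 4 + f 5 + f 6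

/-- Scalar product of lists. -/
def dot : List ℤ → List ℤ → ℤ
  | a :: l, b :: m => Int.add (Int.mul a b) (dot l m)
  | _, _ => 0

/-- The rows of the adjugate. -/
def adjRows : List (List ℤ) :=
  [[1060, -44, -304, 492, 156, -264, -172],
    [-44, 1060, -304, 492, 156, -264, -172],
    [-304, -304, 1312, -816, -528, 384, 16],
    [492, 492, -816, 1524, 564, -360, -84],
    [156, 156, -528, 564, 852, -168, 108],
    [-264, -264, 384, -360, -168, 624, 72],
    [-172, -172, 16, -84, 108, 72, 532]]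

/-- The test coming from the Gram matrix. -/
def okVec (l : Vec) : Bool :=
  let q := dot l (adjRows.map (dot l))
  decide (0 ≤ q ∧ q ≤ 2208)

/-- Filter on one coordinate. -/
def keep : ℕ → List (List ℤ)
  | k => (List.range 7).map fun i => if i == k then [1] else ranges.getD i []

/-- The vectors with a one at the chosen place. -/
def goodVec : Fin 2 → List Vec :=
  ![[
    [0, 0, 1, 0, 0, -1, -1],
    [-1, -1, 1, 1, 0, -1, -1],
    [0, 0, 1, 0, 1, -1, -1],
    [0, 0, 1, 0, 0, 0, -1],
    [0, 0, 1, 1, 0, 0, -1],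
    [0, 0, 1, 0, 1, 0, -1],
    [0, 0, 1, 0, 0, -1, 0],
    [1, 0, 1, 0, 0, -1, 0],
    [0, 1, 1, 0, 0, -1, 0],
    [-1, -1, 1, 1, 0, -1, 0],
    [0, -1, 1, 1, 0, -1, 0],
    [-1, 0, 1, 1, 0, -1, 0],
    [0, 0, 1, 1, 0, -1, 0],
    [0, -1, 1, 0, 1, -1, 0],
    [-1, 0, 1, 0, 1, -1, 0],
    [0, 0, 1, 0, 1, -1, 0],
    [0, 0, 1, 1, -1, 0, 0],
    [0, 0, 1, 0, 0, 0, 0],
    [1, 0, 1, 0, 0, 0, 0],
    [0, 1, 1, 0, 0, 0, 0],
    [1, 1, 1, 0, 0, 0, 0],
    [0, -1, 1, 1, 0, 0, 0],
    [-1, 0, 1, 1, 0, 0, 0],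
    [0, 0, 1, 1, 0, 0, 0],
    [0, 0, 1, 0, 1, 0, 0],
    [1, 0, 1, 0, 1, 0, 0],
    [0, 1, 1, 0, 1, 0, 0],
    [0, 0, 1, 1, 1, 0, 0],
    [0, 0, 1, 1, 0, 1, 0],
    [0, 0, 1, 0, 1, 1, 0],
    [0, 0, 1, 0, 0, -1, 1],
    [0, 0, 1, 1, 0, -1, 1],
    [0, 0, 1, 0, 1, -1, 1],
    [0, 0, 1, 1, -1, 0, 1],
    [0, 0, 1, 0, 0, 0, 1],
    [1, 0, 1, 0, 0, 0, 1],
    [0, 1, 1, 0, 0, 0, 1],
    [1, 1, 1, 0, 0, 0, 1],
    [0, 0, 1, 1, 0, 0, 1],
    [0, 0, 1, 0, 1, 0, 1]],
  [
    [-1, -1, 0, 1, 0, -1, -1],
    [-1, -1, 1, 1, 0, -1, -1],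
    [-1, -1, 0, 1, -1, 0, -1],
    [0, -1, 0, 1, -1, 0, -1],
    [-1, 0, 0, 1, -1, 0, -1],
    [0, 0, 0, 1, -1, 0, -1],
    [-1, -1, 0, 1, 0, 0, -1],
    [0, -1, 0, 1, 0, 0, -1],
    [-1, 0, 0, 1, 0, 0, -1],
    [0, 0, 1, 1, 0, 0, -1],
    [0, 0, 0, 1, 0, 1, -1],
    [-1, -1, 0, 1, -1, -1, 0],
    [0, -1, 0, 1, -1, -1, 0],
    [-1, 0, 0, 1, -1, -1, 0],
    [-1, -1, 0, 1, 0, -1, 0],
    [-1, -1, 1, 1, 0, -1, 0],
    [0, -1, 1, 1, 0, -1, 0],
    [-1, 0, 1, 1, 0, -1, 0],
    [0, 0, 1, 1, 0, -1, 0],
    [-1, -1, 0, 1, -1, 0, 0],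
    [0, -1, 0, 1, -1, 0, 0],
    [-1, 0, 0, 1, -1, 0, 0],
    [0, 0, 0, 1, -1, 0, 0],
    [0, 0, 1, 1, -1, 0, 0],
    [-1, -1, 0, 1, 0, 0, 0],
    [0, -1, 0, 1, 0, 0, 0],
    [-1, 0, 0, 1, 0, 0, 0],
    [0, 0, 0, 1, 0, 0, 0],
    [0, -1, 1, 1, 0, 0, 0],
    [-1, 0, 1, 1, 0, 0, 0],
    [0, 0, 1, 1, 0, 0, 0],
    [0, 0, 1, 1, 1, 0, 0],
    [0, 0, 0, 1, -1, 1, 0],
    [0, -1, 0, 1, 0, 1, 0],
    [-1, 0, 0, 1, 0, 1, 0],
    [0, 0, 0, 1, 0, 1, 0],
    [0, 0, 1, 1, 0, 1, 0],
    [0, 0, 1, 1, 0, -1, 1],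
    [0, -1, 0, 1, -1, 0, 1],
    [-1, 0, 0, 1, -1, 0, 1],
    [0, 0, 0, 1, -1, 0, 1],
    [0, 0, 1, 1, -1, 0, 1],
    [0, 0, 0, 1, 0, 0, 1],
    [0, 0, 1, 1, 0, 0, 1],
    [0, 0, 0, 1, -1, 1, 1],
    [0, 0, 0, 1, 0, 1, 1]]]

theorem goodVec_two : (allVec (keep 2)).filter okVec = goodVec 0 := by decide +kernel

theorem goodVec_three : (allVec (keep 3)).filter okVec = goodVec 1 := by decide +kernel

/-- Squared value at the involution and residue of a vector. -/
def datum (l : Vec) : ℕ × ℕ :=
  ((dot [2, 2, 11, 9, -15, -5, -10] l).natAbs ^ 2,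
    ((dot [18, 18, -5, -7, -63, 43, 6] l) % 128).toNat)

/-- A numerical key of a vector. -/
def key : Vec → ℕ
  | [] => 0
  | x :: l => Nat.add (Int.add x 16).toNat (Nat.mul 32 (key l))

/-- The reduced row of the Gram matrix. -/
def redRow : Fin 2 → Vec := ![[0, 0, 3, 1, 1, -1, 0], [-1, -1, 1, 3, -1, 0, 0]]

/-- Difference of vectors. -/
def vsub : Vec → Vec → Vec
  | x :: l, y :: m => Int.sub x y :: vsub l m
  | _, _ => []

/-- The keys of the vectors. -/
def keys : Fin 2 → List ℕ := ![[16626763280, 16626796015, 16627811856, 16660317712, 16660350480, 16661366288, 17700505104, 17700505105, 17700505136, 17700537839, 17700537840, 17700537871, 17700537872, 17701553648, 17701553679, 17701553680, 17733043728, 17734059536, 17734059537, 17734059568, 17734059569, 17734092272, 17734092303, 17734092304, 17735108112, 17735108113, 17735108144, 17735140880, 17767646736, 17768662544, 18774246928, 18774279696, 18775295504, 18806785552, 18807801360, 18807801361, 18807801392, 18807801393, 18807834128, 18808849936],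 [16626794991, 16626796015, 16659300847, 16659300848, 16659300879, 16659300880, 16660349423, 16660349424, 16660349455, 16660350480, 16693903888, 17699488239, 17699488240, 17699488271, 17700536815, 17700537839, 17700537840, 17700537871, 17700537872, 17733042671, 17733042672, 17733042703, 17733042704, 17733043728, 17734091247, 17734091248, 17734091279, 17734091280, 17734092272, 17734092303, 17734092304, 17735140880, 17766597136, 17767645680, 17767645711, 17767645712, 17767646736, 18774279696, 18806784496, 18806784527, 18806784528, 18806785552, 18807833104, 18807834128, 18840338960, 18841387536]]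

theorem keys_eq : ∀ k : Fin 2, (goodVec k).map key = keys k := by decide +kernel

/-- Whether a key occurs. -/
def hasKey : List ℕ → ℕ → Bool
  | [], _ => false
  | a :: l, n => Nat.beq a n || hasKey l n

theorem hasKey_of_mem {n : ℕ} : ∀ {l : List ℕ}, n ∈ l → hasKey l n = true
  | _ :: _, h => by
    rcases List.mem_cons.1 h with rfl | h
    · simp [hasKey]
    · simp [hasKey, hasKey_of_mem h]

/-- The check for one first vector. -/
def triCheck (L : List Vec) (K : List ℕ) (row : Vec) (data : List Datum) (a : Vec) : Bool :=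
  L.all fun b =>
    let c := vsub (vsub row a) b
    match hasKey K (key c) with
    | false => true
    | true => data.any fun d =>
        let p := datum a
        let q := datum b
        let r := datum c
        ([(p, q, r), (p, r, q), (q, p, r), (q, r, p), (r, p, q), (r, q, p)] : List Datum).contains d

theorem triples_two : (goodVec 0).all (triCheck (goodVec 0) (keys 0) (redRow 0) dataThree) = true := by
  decide +kernel

theorem triples_three :
    (goodVec 1).all (triCheck (goodVec 1) (keys 1) (redRow 1) dataFour) = true := by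
  decide +kernel

theorem triples_check : ∀ k : Fin 2,
    (goodVec k).all (triCheck (goodVec k) (keys k) (redRow k) (dataOf k)) = true := by
  intro k
  fin_cases k
  · exact triples_two
  · exact triples_three

theorem bound_check : ∀ i : Fin 7, gram i i - vone i ^ 2 < (![2, 2, 2, 2, 3, 3, 3] i) ^ 2 := by
  decide +kernel

end CfsgLib.JankoThree
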