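import Cfsg.Agent.Lib.JankoThree.ColsData

/-!
Exclusion of the candidate orders by the function of norm three.
-/

set_option autoImplicit false
set_option maxRecDepth 100000
set_option Elab.async false

namespace CfsgLib.JankoThree

/-- A candidate order, factored, with its small signed divisors by residue modulo `128`. -/
abbrev Cand := List (ℕ × ℕ) × List (ℕ × List ℤ)

/-- The number with a given factorisation. -/
def value : List (ℕ × ℕ) → ℕ
  | [] => 1
  | (p, k) :: l => p ^ k * value l

/-- The divisors with a given factorisation. -/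
def divs : List (ℕ × ℕ) → List ℕ
  | [] => [1]
  | (p, k) :: l => (divs l).flatMap fun d => (List.range (k + 1)).map fun i => p ^ i * d

/-- The entry of a residue. -/
def entry (r : ℕ) : List (ℕ × List ℤ) → Option (List ℤ)
  | [] => none
  | (r', L) :: T => if r' == r then some L else entry r T

/-- A signed divisor stands in its entry, if there is one. -/
def inEntry (T : List (ℕ × List ℤ)) (x : ℤ) : Bool :=
  match entry (x % 128).toNat T with
  | none => true
  | some L => L.contains x

/-- All small divisors of the order stand in the table. -/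
def covers (c : Cand) : Bool :=
  let N := value c.1
  (divs c.1).all fun d => decide (N < d * d) || (inEntry c.2 (d : ℤ) && inEntry c.2 (-(d : ℤ)))

/-- The degrees of a datum do not fit the order. -/
def excludes (c : Cand) (d : Datum) : Bool :=
  match entry d.1.2 c.2, entry d.2.1.2 c.2 with
  | some X, some Y => X.all fun x => Y.all fun y =>
      let z := -x - y
      z == 0 || !((z - (d.2.2.2 : ℤ)) % 128 == 0) ||
        !((value c.1 : ℤ) * ((d.1.1 : ℤ) * (y * z) + (d.2.1.1 : ℤ) * (x * z) +
          (d.2.2.1 : ℤ) * (x * y)) == -614400 * (x * y * z))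
  | _, _ => false

/-- Candidate number 0. -/
def other0 : Cand := ([(2, 7), (3, 1), (5, 5), (7, 1)], [
    (1, [1]),
    (11, []),
    (13, [525]),
    (17, []),
    (19, []),
    (23, [-105]),
    (31, []),
    (37, []),
    (51, []),
    (53, [-75]),
    (54, []),
    (55, []),
    (57, []),
    (60, [-2500, 60, 700]),
    (66, []),
    (73, []),
    (74, []),
    (78, [-50]),
    (79, []),
    (80, [-1200, -560, -48, 80, 336, 2000]),
    (86, [-42, 1750]),
    (98, [-30, 1250]),
    (103, [-25]),
    (110, [750]),
    (116, [-140, -12, 500]),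
    (117, []),
    (122, [-6, 250]),
    (123, [-5]),
    (127, [-1])])

theorem other0_ok : (covers other0 && dataThree.all (excludes other0)) = true := by
  decide +kernel

/-- Candidate number 1. -/
def other1 : Cand := ([(2, 7), (3, 2), (5, 2), (19, 2)], [
    (1, [1]),
    (11, []),
    (13, [1805]),
    (17, [1425]),
    (19, [19]),
    (23, [-361]),
    (31, [-225]),
    (37, [-475]),
    (51, []),
    (53, [-75]),
    (54, [950]),
    (55, []),
    (57, [57]),
    (60, [60]),
    (66, [-190, 450]),
    (73, []),
    (74, [-950]),
    (78, [-50]),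
    (79, []),
    (80, [-2736, -1200, -304, -48, 80, 720]),
    (86, [342]),
    (98, [-30]),
    (103, [-25]),
    (110, [-18]),
    (116, [-12, 1140]),
    (117, []),
    (122, [-6]),
    (123, [-5]),
    (127, [-1])])

theorem other1_ok : (covers other1 && dataThree.all (excludes other1)) = true := by
  decide +kernel

/-- Candidate number 2. -/
def other2 : Cand := ([(2, 7), (3, 2), (5, 1), (7, 1), (587, 1)], [
    (1, [1]),
    (11, []),
    (13, [4109]),
    (17, []),
    (19, []),
    (23, [-105]),
    (31, [-1761]),
    (37, []),
    (51, []),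
    (53, [-587]),
    (54, []),
    (55, []),
    (57, []),
    (60, [60]),
    (66, [3522]),
    (73, []),
    (74, []),
    (78, []),
    (79, []),
    (80, [-560, -48, 80, 336, 720]),
    (86, [-42]),
    (98, [-30]),
    (103, []),
    (110, [-18]),
    (116, [-140, -12]),
    (117, []),
    (122, [-6]),
    (123, [-5]),
    (127, [-1])])

theorem other2_ok : (covers other2 && dataThree.all (excludes other2)) = true := by
  decide +kernel

/-- Candidate number 3. -/
def other3 : Cand := ([(2, 7), (3, 1), (5, 4), (107, 1)], [
    (1, [1]),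
    (11, []),
    (13, [-2675]),
    (17, []),
    (19, []),
    (23, [535]),
    (31, []),
    (37, []),
    (51, []),
    (53, [-75]),
    (54, []),
    (55, []),
    (57, []),
    (60, [-2500, 60]),
    (66, []),
    (73, []),
    (74, []),
    (78, [-50]),
    (79, []),
    (80, [-1712, -1200, -48, 80, 2000]),
    (86, [214]),
    (98, [-30, 1250]),
    (103, [-25]),
    (110, [750]),
    (116, [-12, 500]),
    (117, []),
    (122, [-6, 250]),
    (123, [-5]),
    (127, [-1])])

theorem other3_ok : (covers other3 && dataThree.all (excludes other3)) = true := by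
  decide +kernel

/-- Candidate number 4. -/
def other4 : Cand := ([(2, 7), (3, 3), (5, 1), (7, 1), (13, 1), (19, 1)], [
    (1, [-4095, 1, 513]),
    (11, [-117]),
    (13, [13]),
    (17, [273]),
    (19, [19]),
    (23, [-105]),
    (31, []),
    (37, [-1755, -91]),
    (51, [819]),
    (53, [-1995]),
    (54, [-1482, 54, 182, 3510]),
    (55, [-585]),
    (57, [-455, 57]),
    (60, [-3780, -1092, 60, 1596]),
    (66, [-702, -190]),
    (73, [585]),
    (74, [-3510, -182, -54, 1482]),
    (78, [-4914, -1330, 78]),
    (79, [-945]),
    (80, [-5040, -3120, -2736, -1456, -560, -432, -304, -48, 80, 208, 336, 720, 1872, 2128, 3024, 4560]),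
    (86, [-2730, -42, 342]),
    (98, [-798, -30, 1890]),
    (103, [-2457, -665]),
    (110, [-1170, -18, 494]),
    (116, [-780, -140, -12, 756, 1140]),
    (117, [117]),
    (122, [-390, -6, 378]),
    (123, [-2565, -133, -5]),
    (127, [-513, -1, 4095])])

theorem other4_ok : (covers other4 && dataThree.all (excludes other4)) = true := by
  decide +kernel

/-- Candidate number 5. -/
def other5 : Cand := ([(2, 7), (3, 2), (5, 1), (17, 1), (19, 2)], [
    (1, [-255, 1]),
    (11, []),
    (13, [1805]),
    (17, [17]),
    (19, [-4845, 19]),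
    (23, [-361]),
    (31, []),
    (37, [-2907]),
    (51, [51]),
    (53, []),
    (54, [5814]),
    (55, [-969]),
    (57, [57]),
    (60, [-68, 60]),
    (66, [-190]),
    (73, [969]),
    (74, [-5814]),
    (78, [-306]),
    (79, [-3249, 1615]),
    (80, [-5168, -2736, -816, -304, -48, 80, 720, 1360, 4560]),
    (86, [-170, 342]),
    (98, [-3230, -30]),
    (103, [-153]),
    (110, [-1938, -18]),
    (116, [-1292, -12, 1140, 3060]),
    (117, []),
    (122, [-646, -6, 1530]),
    (123, [-5]),
    (127, [-1, 255])])

theorem other5_ok : (covers other5 && dataThree.all (excludes other5)) = true := by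
  decide +kernel

/-- Candidate number 6. -/
def other6 : Cand := ([(2, 7), (3, 3), (5, 1), (17, 1), (131, 1)], [
    (1, [-255, 1]),
    (11, []),
    (13, []),
    (17, [17]),
    (19, []),
    (23, []),
    (31, []),
    (37, []),
    (51, [51, 2227]),
    (53, [-459]),
    (54, [54, 2358]),
    (55, []),
    (57, []),
    (60, [-68, 60, 2620]),
    (66, []),
    (73, []),
    (74, [-2358, -54]),
    (78, [-306]),
    (79, []),
    (80, [-2096, -816, -432, -48, 80, 720, 1360]),
    (86, [-170]),
    (98, [-1310, -30]),
    (103, [-153]),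
    (110, [-786, -18, 4590]),
    (116, [-524, -12, 3060]),
    (117, []),
    (122, [-262, -6, 1530]),
    (123, [-5]),
    (127, [-1, 255])])

theorem other6_ok : (covers other6 && dataThree.all (excludes other6)) = true := by
  decide +kernel

/-- Candidate number 7. -/
def other7 : Cand := ([(2, 7), (3, 3), (5, 2), (7, 2), (19, 1)], [
    (1, [1, 513]),
    (11, [-4725, -245]),
    (13, [525]),
    (17, [1425]),
    (19, [19, 147]),
    (23, [-2793, -105]),
    (31, [-5985, -225]),
    (37, [-3675, -475]),
    (51, [4275]),
    (53, [-1995, -75]),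
    (54, [54, 950, 7350]),
    (55, [-1225]),
    (57, [57, 441]),
    (60, [-5700, -3780, -196, 60, 700, 1596]),
    (66, [-1470, -190, 450]),
    (73, [1225]),
    (74, [-7350, -950, -54]),
    (78, [-1330, -50, 3150]),
    (79, [-945, -49]),
    (80, [-7600, -5040, -2736, -2352, -1200, -560, -432, -304, -48, 80, 336, 720, 2128, 3024, 3920, 4560, 8400]),
    (86, [-42, 342, 2646]),
    (98, [-798, -30, 98, 1890]),
    (103, [-665, -25]),
    (110, [-2450, -18]),
    (116, [-3724, -2700, -140, -12, 756, 1140, 8820]),
    (117, [245, 4725]),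
    (122, [-6, 378, 6650]),
    (123, [-2565, -133, -5]),
    (127, [-513, -1])])

theorem other7_ok : (covers other7 && dataThree.all (excludes other7)) = true := by
  decide +kernel

/-- Candidate number 8. -/
def other8 : Cand := ([(2, 7), (3, 2), (5, 1), (7, 1), (13, 2), (19, 1)], [
    (1, [-4095, 1]),
    (11, [-117, 3211]),
    (13, [13]),
    (17, [273]),
    (19, [19]),
    (23, [-105, 10647]),
    (31, [-5985, 1183]),
    (37, [-91]),
    (51, [-845, 819]),
    (53, [-1995, 7605]),
    (54, [-1482, 182]),
    (55, [-585]),
    (57, [-455, 57]),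
    (60, [-6084, -1092, 60, 1596, 8892]),
    (66, [-2366, -190]),
    (73, [585]),
    (74, [-182, 1482]),
    (78, [-1330, 78, 5070]),
    (79, []),
    (80, [-8112, -5040, -3120, -2736, -1456, -560, -304, -48, 80, 208, 336, 720, 1872, 2128, 4560]),
    (86, [-2730, -42, 342]),
    (98, [-798, -30, 3042]),
    (103, [-665, 2535]),
    (110, [-1170, -18, 494]),
    (116, [-780, -140, -12, 1140]),
    (117, [-3211, 117]),
    (122, [-10374, -390, -6]),
    (123, [-133, -5, 507]),
    (127, [-1, 4095])])

theorem other8_ok : (covers other8 && dataThree.all (excludes other8)) = true := by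
  decide +kernel

/-- Candidate number 9. -/
def other9 : Cand := ([(2, 7), (3, 2), (5, 1), (13, 1), (47, 1), (61, 1)], [
    (1, [-14335, 1]),
    (11, [-117]),
    (13, [13, 141]),
    (17, [-3055]),
    (19, [915]),
    (23, []),
    (31, [-7137]),
    (37, [549]),
    (51, [-9165, 2867]),
    (53, [-2379]),
    (54, [-1098]),
    (55, [-585, 183]),
    (57, [2745]),
    (60, [-1220, 60, 188, 12220]),
    (66, [14274]),
    (73, [-183, 585]),
    (74, [1098]),
    (78, [-1586, 78, 846]),
    (79, [-305]),
    (80, [-14640, -9776, -3760, -3120, -48, 80, 208, 720, 976, 1872, 2256, 8784]),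
    (86, [470]),
    (98, [-30, 610]),
    (103, [-8601, -793]),
    (110, [-1170, -18, 366]),
    (116, [-8460, -2444, -780, -12, 244]),
    (117, [117]),
    (122, [-4230, -390, -6, 122, 7930]),
    (123, [-5, 5499]),
    (127, [-1, 14335])])

theorem other9_ok : (covers other9 && dataThree.all (excludes other9)) = true := by
  decide +kernel

/-- Candidate number 10. -/
def other10 : Cand := ([(2, 7), (3, 2), (5, 2), (13, 1), (19, 1), (31, 1)], [
    (1, [1, 2945]),
    (11, [-117]),
    (13, [-1395, 13]),
    (17, [1425]),
    (19, [-2925, 19, 403]),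
    (23, [-7657, 279]),
    (31, [-225, 31, 6175]),
    (37, [-10075, -475]),
    (51, [-589, 4275]),
    (53, [-75, 5301]),
    (54, [-1482, 310, 950]),
    (55, [-585]),
    (57, [57, 1209]),
    (60, [-5700, -1860, 60, 3900, 8892]),
    (66, [-12350, -4030, -190, -62, 450]),
    (73, [585]),
    (74, [-950, -310, 1482]),
    (78, [-50, 78, 3534]),
    (79, [975]),
    (80, [-7600, -6448, -3120, -2736, -2480, -1200, -304, -48, 80, 208, 720, 1488, 1872, 4560, 5200, 9424, 11856]),
    (86, [-4650, 342, 7254]),
    (98, [-1950, -30]),
    (103, [-25, 1767]),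
    (110, [-1170, -18, 494]),
    (116, [-780, -12, 372, 1140]),
    (117, [117]),
    (122, [-390, -6]),
    (123, [-14725, -5]),
    (127, [-2945, -1])])

theorem other10_ok : (covers other10 && dataThree.all (excludes other10)) = true := by
  decide +kernel

/-- Candidate number 11. -/
def other11 : Cand := ([(2, 7), (3, 2), (5, 2), (7, 1), (19, 1), (149, 1)], [
    (1, [1]),
    (11, []),
    (13, [525, 3725]),
    (17, [1425]),
    (19, [19, 1043]),
    (23, [-19817, -745, -105]),
    (31, [-5985, -225]),
    (37, [-475]),
    (51, [4275]),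
    (53, [-14155, -1995, -75]),
    (54, [950]),
    (55, []),
    (57, [57, 3129]),
    (60, [-5700, 60, 700, 1596, 11324]),
    (66, [-10430, -190, 450, 11970]),
    (73, []),
    (74, [-950]),
    (78, [-1330, -50, 3150, 22350]),
    (79, [-6705]),
    (80, [-16688, -7600, -5040, -2736, -1200, -560, -304, -48, 80, 336, 720, 2128, 2384, 4560, 8400, 19152, 21456]),
    (86, [-298, -42, 342, 18774]),
    (98, [-5662, -798, -30, 13410]),
    (103, [-665, -25]),
    (110, [-18, 19950]),
    (116, [-140, -12, 1140, 5364, 13300]),
    (117, []),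
    (122, [-6, 2682, 6650]),
    (123, [-133, -5]),
    (127, [-1])])

theorem other11_ok : (covers other11 && dataThree.all (excludes other11)) = true := by
  decide +kernel

/-- Candidate number 12. -/
def other12 : Cand := ([(2, 7), (3, 1), (5, 3), (19, 1), (23, 1), (43, 1)], [
    (1, [-5375, 1, 129]),
    (11, [-4085]),
    (13, [-14835, -115]),
    (17, [1425]),
    (19, [19, 2451]),
    (23, [23, 2967]),
    (31, [1311]),
    (37, [-475]),
    (51, [1075]),
    (53, [-75, 437]),
    (54, [950, 13110]),
    (55, [-20425]),
    (57, [-2375, 57]),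
    (60, [-19780, -5700, -3268, 60]),
    (66, [-24510, -2622, -190]),
    (73, [20425]),
    (74, [-13110, -950]),
    (78, [-6450, -690, -50]),
    (79, [-8625, -817]),
    (80, [-17200, -7600, -1840, -1200, -688, -304, -48, 80, 1104, 2000, 4560, 6992, 10320, 15824, 27600]),
    (86, [-14250, 86]),
    (98, [-30, 1634, 17250]),
    (103, [-3225, -25, 18791]),
    (110, [-4370, 750]),
    (116, [-12, 500, 1140, 3956, 6900]),
    (117, [4085]),
    (122, [-6, 250, 3450]),
    (123, [-645, -5]),
    (127, [-129, -1, 5375])])

theorem other12_ok : (covers other12 && dataThree.all (excludes other12)) = true := by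
  decide +kernel

/-- Candidate number 13. -/
def other13 : Cand := ([(2, 7), (3, 1), (5, 2), (19, 2), (23, 1), (53, 1)], [
    (1, [1, 15105]),
    (11, [30475]),
    (13, [-115, 1805]),
    (17, [-8303, -1007, 1425]),
    (19, [-18285, 19]),
    (23, [-361, 23]),
    (31, [159, 1311]),
    (37, [-475]),
    (51, [-24909, -3021]),
    (53, [-75, 53, 437]),
    (54, [950, 1590, 13110]),
    (55, [-3657, 57399]),
    (57, [57]),
    (60, [-5700, 60, 4028, 24380, 33212]),
    (66, [-2622, -318, -190]),
    (73, [-57399, 3657]),
    (74, [-13110, -1590, -950]),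
    (78, [-690, -50, 10830]),
    (79, [6095]),
    (80, [-19504, -17328, -12720, -7600, -1840, -1200, -304, -48, 80, 848, 1104, 4560, 6992, 21200, 27600, 28880, 48336]),
    (86, [10070]),
    (98, [-12190, -30]),
    (103, [-25]),
    (110, [-7314, -4370, -530]),
    (116, [-4876, -12, 1140, 6900]),
    (117, [-30475]),
    (122, [-54150, -2438, -6, 3450, 38266]),
    (123, [-5]),
    (127, [-15105, -1])])

theorem other13_ok : (covers other13 && dataThree.all (excludes other13)) = true := by
  decide +kernel

/-- Candidate number 14. -/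
def other14 : Cand := ([(2, 7), (3, 3), (5, 1), (7, 1), (19, 2), (109, 1)], [
    (1, [-2943, 1, 513]),
    (11, [-16245]),
    (13, [-10355, 1805]),
    (17, [37905]),
    (19, [-55917, -109, 19, 9747]),
    (23, [-361, -105, 2071]),
    (31, [-5985, 34335]),
    (37, [-12635]),
    (51, []),
    (53, [-1995, 11445, 39349]),
    (54, [54, 25270]),
    (55, []),
    (57, [-327, 57]),
    (60, [-12996, -9156, -3780, 60, 1596]),
    (66, [-68670, -5054, -190, 1090, 11970, 28994]),
    (73, []),
    (74, [-25270, -54]),
    (78, [-62130, -1330, 7630, 10830]),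
    (79, [-3249, -945, 18639]),
    (80, [-31920, -26160, -17328, -12208, -5040, -2736, -560, -432, -304, -48, 80, 336, 720, 1744, 2128, 3024, 4560, 15696, 19152, 28880, 41040]),
    (86, [-1962, -42, 342]),
    (98, [-37278, -798, -30, 1890, 4578, 6498]),
    (103, [-665, 3815]),
    (110, [-18]),
    (116, [-6540, -140, -12, 756, 1140, 30324]),
    (117, [16245]),
    (122, [-6, 378]),
    (123, [-68229, -2565, -133, -5, 763, 14715]),
    (127, [-513, -1, 2943])])

theorem other14_ok : (covers other14 && dataThree.all (excludes other14)) = true := by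
  decide +kernel

/-- Candidate number 15. -/
def other15 : Cand := ([(2, 7), (3, 3), (5, 3), (19, 1), (23, 1), (103, 1)], [
    (1, [-21375, 1, 513, 88065]),
    (11, [1035]),
    (13, [-58995, -115]),
    (17, [-5871, 1425]),
    (19, [-106605, -621, 19, 25875]),
    (23, [23, 11799]),
    (31, [-54625, -38625, -225, 927, 1311]),
    (37, [-63963, -475, 1957, 15525]),
    (51, [-17613, 4275]),
    (53, [-12875, -75, 309, 437]),
    (54, [-31050, -3914, -2250, 54, 950, 9270, 13110, 127926]),
    (55, [-21321, 5175]),
    (57, [-2375, 57, 9785, 77625]),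
    (60, [-78660, -55620, -34500, -5700, 60, 828, 10300, 13500, 23484]),
    (66, [-2622, -1854, -190, 450, 6210, 77250, 109250]),
    (73, [-5175, 21321]),
    (74, [-127926, -13110, -9270, -950, -54, 2250, 3914, 31050]),
    (78, [-118450, -25650, -690, -50, 206, 105678]),
    (79, [-8625, 207, 35535]),
    (80, [-113712, -104880, -74160, -68400, -46000, -16560, -10800, -8240, -7600, -2736, -1840, -1200, -432, -304, -48, 80, 720, 1104, 2000, 4560, 4944, 6992, 9936, 18000, 27600, 31312, 41040, 44496, 62928, 114000, 123600]),
    (86, [-139050, -14250, 342, 58710]),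
    (98, [-71070, -5150, -414, -30, 17250]),
    (103, [-12825, -25, 103, 52839]),
    (110, [-42642, -4370, -3090, -18, 750, 10350]),
    (116, [-28428, -2700, -2060, -12, 500, 1140, 6900, 11124, 15732]),
    (117, [-1035]),
    (122, [-14214, -1030, -6, 250, 3450, 128250]),
    (123, [-2565, -5]),
    (127, [-88065, -513, -1, 21375])])

theorem other15_ok : (covers other15 && dataThree.all (excludes other15)) = true := by
  decide +kernel

/-- Candidate number 16. -/
def other16 : Cand := ([(2, 7), (3, 3), (5, 2), (19, 1), (41, 1), (457, 1)], [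
    (1, [-61695, 1, 513, 1025]),
    (11, [-93685, 779]),
    (13, []),
    (17, [-35055, 1425, 4113]),
    (19, [-2285, 19, 19475, 56211]),
    (23, [43415]),
    (31, [-225, 5535]),
    (37, [-1371, -475, 11685]),
    (51, [-105165, -205, 4275, 12339]),
    (53, [-75, 1845]),
    (54, [-23370, 54, 950, 2742, 55350]),
    (55, [-457, 3895]),
    (57, [-6855, 57, 58425, 168633]),
    (60, [-74948, -16452, -5700, -1476, 60, 140220]),
    (66, [-11070, -190, 450, 4674, 22850]),
    (73, [-3895, 457]),
    (74, [-55350, -2742, -950, -54, 23370]),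
    (78, [-25650, -50, 1230]),
    (79, [-18737]),
    (80, [-138928, -112176, -68400, -49200, -21936, -17712, -12464, -10800, -7600, -2736, -1968, -1200, -432, -304, -48, 80, 720, 3280, 4560, 29520, 36560, 41040]),
    (86, [-41130, 342, 17366]),
    (98, [-30, 738, 37474]),
    (103, [-12825, -25, 615]),
    (110, [-18450, -914, -18, 7790]),
    (116, [-137100, -28044, -12300, -2700, -12, 1140]),
    (117, [-779, 93685]),
    (122, [-156294, -6150, -6]),
    (123, [-2565, -5, 123]),
    (127, [-1025, -513, -1, 61695])])

theorem other16_ok : (covers other16 && dataThree.all (excludes other16)) = true := by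
  decide +kernel

/-- Candidate number 17. -/
def other17 : Cand := ([(2, 7), (3, 2), (5, 5), (11, 1), (29, 1), (47, 1)], [
    (1, [-224895, -2175, 1, 90625]),
    (11, [-23925, 11, 52875]),
    (13, [-5875, 141]),
    (17, [-495, 145, 14993, 20625]),
    (19, [275, 14355]),
    (23, [1175, 61335]),
    (31, [-23265, -225, 6815, 9375]),
    (37, [-6875, 165]),
    (51, [-18125, 435, 44979, 61875]),
    (53, [-7755, -75, 3125, 163125]),
    (54, [-2250, -330, 13750, 68150]),
    (55, [-119625, 55, 2871]),
    (57, [-34375, 825]),
    (60, [-130500, -82500, -59972, -19140, -2500, -580, 60, 188, 1980, 6204, 42300]),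
    (66, [-143550, -18750, -13630, -2750, 66, 450, 46530]),
    (73, [-2871, -55, 119625]),
    (74, [-68150, -13750, 330, 2250]),
    (78, [-35250, -5170, -2610, -50, 846, 15950, 108750]),
    (79, [-4785, 10575, 199375]),
    (80, [-229680, -196272, -174000, -124080, -110000, -94000, -39600, -33840, -30000, -25520, -21808, -6960, -4400, -3760, -1584, -1200, -176, -48, 80, 464, 720, 2000, 2256, 2640, 4176, 8272, 11600, 15312, 18000, 50000, 56400, 66000, 74448, 104400, 206800]),
    (86, [-206250, -149930, -1450, 470, 4950, 24534]),
    (98, [-21150, -3102, -30, 1250, 9570, 65250, 129250]),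
    (103, [-134937, -2585, -1305, -25, 54375]),
    (110, [-18, 110, 750, 5742, 77550]),
    (116, [-159500, -8460, -396, -12, 116, 500, 3828, 16500, 26100, 51700, 81780, 112500]),
    (117, [-52875, -11, 23925]),
    (122, [-79750, -4230, -6, 250, 1914, 13050, 25850, 176250]),
    (123, [-517, -261, -5, 10875]),
    (127, [-90625, -1, 2175, 224895])])

theorem other17_ok : (covers other17 && dataThree.all (excludes other17)) = true := by
  decide +kernel

/-- Candidate number 18. -/
def other18 : Cand := ([(2, 7), (3, 1), (5, 2), (43, 1), (599, 1), (661, 1)], [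
    (1, [-14975, 1, 129]),
    (11, []),
    (13, [16525]),
    (17, [128785]),
    (19, []),
    (23, [-3305]),
    (31, []),
    (37, []),
    (51, [1075, 2995, 386355]),
    (53, [-75]),
    (54, []),
    (55, []),
    (57, []),
    (60, [60]),
    (66, []),
    (73, []),
    (74, []),
    (78, [-17970, -6450, -50, 99150]),
    (79, []),
    (80, [-158640, -47920, -17200, -1200, -688, -48, 80, 10320, 10576, 28752, 264400]),
    (86, [-170538, -1322, 86]),
    (98, [-30]),
    (103, [-8985, -3225, -25]),
    (110, []),
    (116, [-12, 103028, 179700]),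
    (117, []),
    (122, [-6, 89850]),
    (123, [-1797, -645, -5]),
    (127, [-129, -1, 14975])])

theorem other18_ok : (covers other18 && dataThree.all (excludes other18)) = true := by
  decide +kernel

/-- Candidate number 19. -/
def other19 : Cand := ([(2, 7), (3, 2), (5, 4), (11, 1), (19, 1), (29, 1), (97, 1)], [
    (1, [-481023, -133375, -21375, -9215, -2175, 1, 3201]),
    (11, [-235125, -101365, -23925, -1653, 11, 68875]),
    (13, [-181875, -627, 4365, 26125, 587917]),
    (17, [-495, 145, 1425, 20625, 464145]),
    (19, [-598125, -41325, 19, 275, 14355, 60819]),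
    (23, [-272745, -5225, -873, 36375]),
    (31, [-30305, -225, -97, 210975]),
    (37, [-358875, -154715, -24795, -6875, -475, 165]),
    (51, [-18125, 435, 1843, 4275, 26675, 61875]),
    (53, [-240075, -16587, -75, 70325, 163125]),
    (54, [-303050, -50634, -2250, -970, -330, 950, 13750, 49590, 309430]),
    (55, [-506825, -119625, -8265, 55, 2871, 344375]),
    (57, [-123975, -53447, -2375, 57, 825, 182457]),
    (60, [-552900, -242500, -188100, -130500, -82500, -81092, -56260, -19140, -5700, -2500, -836, -580, 60, 1980, 5820, 55100, 192060]),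
    (66, [-608190, -421950, -143550, -61886, -9918, -2750, -190, 66, 194, 450, 60610, 413250]),
    (73, [-344375, -2871, -55, 8265, 119625, 506825]),
    (74, [-309430, -49590, -13750, -950, 330, 970, 2250, 50634, 303050]),
    (78, [-160050, -11058, -3762, -2610, -50, 1102, 15950, 108750, 156750, 460750]),
    (79, [-47025, -20273, -4785, 13775, 199375]),
    (80, [-638000, -426800, -396720, -265392, -250800, -229680, -190000, -174000, -153648, -116400, -110000, -68400, -44080, -39600, -30000, -29488, -25520, -17072, -10032, -7600, -6960, -4656, -4400, -2736, -1584, -1200, -304, -176, -48, 80, 464, 720, 2000, 2640, 4176, 4560, 7760, 11600, 15312, 16720, 18000, 26448, 45008, 66000, 69840, 96976, 104400, 114000, 150480, 194000, 256080, 290000, 382800, 405072, 418000, 442320]),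
    (86, [-320682, -109098, -14250, -2090, -1450, 342, 2134, 4950, 14550]),
    (98, [-398750, -96030, -27550, -30, 1250, 9570, 28130, 40546, 65250, 94050, 276450]),
    (103, [-80025, -5529, -1305, -25, 54375, 230375]),
    (110, [-239250, -16530, -18, 110, 750, 5742, 16878, 165870]),
    (116, [-363660, -159500, -47500, -38412, -11020, -1164, -396, -12, 116, 500, 1140, 3828, 11252, 16500, 26100, 37620, 48500, 110580, 371316]),
    (117, [-68875, -11, 1653, 23925, 101365, 235125]),
    (122, [-79750, -19206, -5510, -6, 250, 1914, 5626, 13050, 18810, 55290]),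
    (123, [-16005, -261, -5, 10875, 46075, 106875]),
    (127, [-3201, -1, 2175, 9215, 21375, 133375, 481023])])

theorem other19_ok : (covers other19 && dataThree.all (excludes other19)) = true := by
  decide +kernel

/-- The candidate orders to be excluded. -/
def others : List Cand := [
  other0, other1, other2, other3, other4, other5, other6, other7,
  other8, other9, other10, other11, other12, other13, other14, other15,
  other16, other17, other18, other19]

theorem excluded : ∀ c ∈ others, covers c = true ∧ dataThree.all (excludes c) = true := by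
  intro c hc
  simp only [others, List.mem_cons, List.not_mem_nil, or_false] at hc
  rcases hc with rfl | rfl | rfl | rfl | rfl | rfl | rfl | rfl | rfl | rfl | rfl | rfl | rfl | rfl | rfl | rfl | rfl | rfl | rfl | rfl
  · exact Bool.and_eq_true_iff.1 other0_ok
  · exact Bool.and_eq_true_iff.1 other1_ok
  · exact Bool.and_eq_true_iff.1 other2_ok
  · exact Bool.and_eq_true_iff.1 other3_ok
  · exact Bool.and_eq_true_iff.1 other4_ok
  · exact Bool.and_eq_true_iff.1 other5_ok
  · exact Bool.and_eq_true_iff.1 other6_ok
  · exact Bool.and_eq_true_iff.1 other7_ok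
  · exact Bool.and_eq_true_iff.1 other8_ok
  · exact Bool.and_eq_true_iff.1 other9_ok
  · exact Bool.and_eq_true_iff.1 other10_ok
  · exact Bool.and_eq_true_iff.1 other11_ok
  · exact Bool.and_eq_true_iff.1 other12_ok
  · exact Bool.and_eq_true_iff.1 other13_ok
  · exact Bool.and_eq_true_iff.1 other14_ok
  · exact Bool.and_eq_true_iff.1 other15_ok
  · exact Bool.and_eq_true_iff.1 other16_ok
  · exact Bool.and_eq_true_iff.1 other17_ok
  · exact Bool.and_eq_true_iff.1 other18_ok
  · exact Bool.and_eq_true_iff.1 other19_ok

end CfsgLib.JankoThree
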