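import Mathlib

/-!
The finite search for the orders allowed by the function of norm four.
-/

set_option autoImplicit false
set_option maxRecDepth 100000

namespace CfsgLib.JankoThree

/-- The orders left by the search. -/
def candList : List ℤ :=
  [8400000, 10396800, 23667840, 25680000, 29877120, 35349120, 38482560, 50232960, 80438400,
    129467520, 214680960, 220521600, 570729600, 901968000, 4224566400, 4759655040, 19444752000,
    30758659200, 53974800000, 163443619200, 423300240000]

/-- Conditions on a candidate order. -/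
def goodN (q x y z : ℤ) : Bool :=
  decide (0 < q) && (q.natAbs % 256).beq 128 && (q.natAbs % 15).beq 0 &&
    (q.natAbs % x.natAbs).beq 0 && (q.natAbs % y.natAbs).beq 0 && (q.natAbs % z.natAbs).beq 0 &&
    decide (x * x ≤ q) && decide (y * y ≤ q) && decide (z * z ≤ q)

/-- One candidate pair of degrees. -/
def cell (s₁ s₂ s₃ : ℕ) (x y : ℤ) : Bool :=
  let z := 1 - x - y
  let p := x * y * z
  let num := p - (s₁ : ℤ) * (y * z) - (s₂ : ℤ) * (x * z) - (s₃ : ℤ) * (x * y)
  let den := 29184000 * p
  !(den.natAbs % num.natAbs).beq 0 || !goodN (den / num) x y z || candList.contains (den / num)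

/-- The integers of a residue class modulo `128` between two bounds. -/
def opts (r : ℕ) (lo hi : ℤ) : List ℤ :=
  let a := lo + ((r : ℤ) - lo) % 128
  (List.range (((hi - a) / 128 + 1).toNat)).map fun i : ℕ => a + 128 * (i : ℤ)

/-- Cells along one line, with `a = 1 - x`, `b = x - s₁` and `w = 29184000 |x|`. -/
def scan (s₁ s₂ s₃ : ℕ) (x a b : ℤ) (w : ℕ) : ℕ → ℤ → Bool
  | 0, _ => true
  | n + 1, y =>
    let z := Int.sub a y
    let p := Int.mul y z
    let num := Int.sub (Int.mul b p)
      (Int.mul x (Int.add (Int.mul (Int.ofNat s₂) z) (Int.mul (Int.ofNat s₃) y)))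
    match Nat.beq (Nat.mod (Nat.mul w p.natAbs) num.natAbs) 0 with
    | true => cell s₁ s₂ s₃ x y && scan s₁ s₂ s₃ x a b w n (Int.add y 128)
    | false => scan s₁ s₂ s₃ x a b w n (Int.add y 128)

/-- All cells of a line. -/
def line (p q r : ℕ × ℕ) (x lo hi : ℤ) : Bool :=
  let a := lo + ((q.2 : ℤ) - lo) % 128
  scan p.1 q.1 r.1 x (1 - x) (x - (p.1 : ℤ)) (29184000 * x.natAbs) (((hi - a) / 128 + 1).toNat) a

/-- A degree contributing at most one sixth. -/
def big (s : ℕ) (x : ℤ) : Bool := decide (x < 0 ∨ 6 * (s : ℤ) ≤ x)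

/-- All three degrees contribute little. -/
def checkBig (p q r : ℕ × ℕ) : Bool :=
  (opts p.2 (-7640) 7640).all fun x =>
    !big p.1 x || line p q r x (max (-7640) (1 - x - 7640)) (min 7640 (1 - x + 7640))

/-- Newton's iteration for a square root. -/
def isq (B : ℕ) : ℕ → ℕ → ℕ
  | 0, g => g
  | n + 1, g => let h := (g + B / g) / 2; if h < g then isq B n h else g

/-- An upper bound for `|y|` when the first degree is small. -/
def ybound (p q r : ℕ × ℕ) (x : ℤ) : ℕ :=
  let a := x.natAbs
  let e := (x - (p.1 : ℤ)).natAbs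
  max (isq (58368000 * a / e) 64 (58368000 * a / e + 1) + 1) (2 * (q.1 + r.1) * a / e + a + 2)

/-- The first degree contributes more than one sixth. -/
def checkSmall (p q r : ℕ × ℕ) : Bool :=
  (opts p.2 1 (6 * (p.1 : ℤ))).all fun x =>
    let e := (x - (p.1 : ℤ)).natAbs
    let Y := ybound p q r x
    !(e.beq 0) && decide (58368000 * x.natAbs / e < Y * Y) &&
      line p q r x (-(Y : ℤ)) Y

/-- All checks for one datum. -/
def checkDatum (d : (ℕ × ℕ) × (ℕ × ℕ) × (ℕ × ℕ)) : Bool :=
  checkBig d.1 d.2.1 d.2.2 && checkSmall d.1 d.2.1 d.2.2 && checkSmall d.2.1 d.2.2 d.1 &&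
    checkSmall d.2.2 d.1 d.2.1

end CfsgLib.JankoThree
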