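import Cfsg.Agent.Lib.JankoThree.Classes

/-!
The class functions on `2^(1+4) : A₅` used for the order of the third Janko group and the
ingredients showing that they are generalised characters.
-/

set_option autoImplicit false
set_option maxRecDepth 100000
set_option Elab.async false

open Cfsg
open scoped ComplexConjugate

namespace CfsgLib.JankoThree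

/-- Exponent tables of the linear characters. -/
def lamTab : Fin 8 → ℕ := ![tLam0, tLam1, tLam2, tLam3, tLam4, tLam5, tLam6, tLam7]

/-- Orders of their subgroups. -/
def lamSize : Fin 8 → ℕ := ![48, 48, 48, 96, 120, 48, 48, 384]

/-- Exponent of the linear character at a code, `7` outside the subgroup. -/
def lam (j : Fin 8) (n : ℕ) : ℕ := slot (lamTab j) 3 n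

/-- Values of the induced characters. -/
def indVal : Fin 8 → Fin 16 → ℤ :=
  ![![40, 40, 16, 4, 4, 0, 2, 1, 1, 1, 1, 1, 0, 0, 0, 0],
    ![40, 40, -16, 4, 4, 0, -2, 1, 1, 1, -1, -1, 0, 0, 0, 0],
    ![40, 40, 0, 12, 4, 0, 2, 4, 4, 0, 0, 0, 0, 0, 0, 0],
    ![20, 20, 12, 8, 4, 0, 2, 2, 2, 2, 0, 0, 0, 0, 0, 0],
    ![16, -16, 0, 0, 0, 0, 0, 4, -4, 0, 0, 0, 1, -1, 1, -1],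
    ![40, -40, 0, 0, 0, 0, 0, 4, -4, 0, 0, 0, 0, 0, 0, 0],
    ![40, -40, 0, 0, 0, 0, 0, -2, 2, 0, 0, 0, 0, 0, 0, 0],
    ![5, 5, -3, 1, 1, 1, -1, 2, 2, -2, 0, 0, 0, 0, 0, 0]]

/-- The seven functions supported on the special classes. -/
def al : Fin 7 → Fin 16 → Zu :=
  ![![⟨0, 0⟩, ⟨-16, 0⟩, ⟨0, 0⟩, ⟨-4, 0⟩, ⟨0, 0⟩, ⟨0, 0⟩, ⟨2, 0⟩, ⟨0, 0⟩, ⟨-4, 0⟩, ⟨2, 0⟩, ⟨0, 0⟩, ⟨0, 0⟩, ⟨0, 0⟩, ⟨-2, -2⟩, ⟨0, 0⟩, ⟨0, 2⟩],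
    ![⟨0, 0⟩, ⟨-16, 0⟩, ⟨0, 0⟩, ⟨-4, 0⟩, ⟨0, 0⟩, ⟨0, 0⟩, ⟨2, 0⟩, ⟨0, 0⟩, ⟨-4, 0⟩, ⟨2, 0⟩, ⟨0, 0⟩, ⟨0, 0⟩, ⟨0, 0⟩, ⟨0, 2⟩, ⟨0, 0⟩, ⟨-2, -2⟩],
    ![⟨0, 0⟩, ⟨32, 0⟩, ⟨0, 0⟩, ⟨-8, 0⟩, ⟨0, 0⟩, ⟨0, 0⟩, ⟨0, 0⟩, ⟨0, 0⟩, ⟨-4, 0⟩, ⟨-2, 0⟩, ⟨0, 0⟩, ⟨0, 0⟩, ⟨0, 0⟩, ⟨2, 0⟩, ⟨0, 0⟩, ⟨2, 0⟩],
    ![⟨0, 0⟩, ⟨48, 0⟩, ⟨0, 0⟩, ⟨-4, 0⟩, ⟨0, 0⟩, ⟨0, 0⟩, ⟨-2, 0⟩, ⟨0, 0⟩, ⟨0, 0⟩, ⟨-4, 0⟩, ⟨0, 0⟩, ⟨0, 0⟩, ⟨0, 0⟩, ⟨-2, 0⟩, ⟨0, 0⟩, ⟨-2, 0⟩],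
    ![⟨0, 0⟩, ⟨-48, 0⟩, ⟨0, 0⟩, ⟨-12, 0⟩, ⟨0, 0⟩, ⟨0, 0⟩, ⟨-2, 0⟩, ⟨0, 0⟩, ⟨0, 0⟩, ⟨0, 0⟩, ⟨0, 0⟩, ⟨0, 0⟩, ⟨0, 0⟩, ⟨2, 0⟩, ⟨0, 0⟩, ⟨2, 0⟩],
    ![⟨0, 0⟩, ⟨-32, 0⟩, ⟨0, 0⟩, ⟨-8, 0⟩, ⟨0, 0⟩, ⟨0, 0⟩, ⟨4, 0⟩, ⟨0, 0⟩, ⟨4, 0⟩, ⟨-2, 0⟩, ⟨0, 0⟩, ⟨0, 0⟩, ⟨0, 0⟩, ⟨-2, 0⟩, ⟨0, 0⟩, ⟨-2, 0⟩],
    ![⟨0, 0⟩, ⟨-32, 0⟩, ⟨0, 0⟩, ⟨8, 0⟩, ⟨0, 0⟩, ⟨0, 0⟩, ⟨0, 0⟩, ⟨0, 0⟩, ⟨-8, 0⟩, ⟨-4, 0⟩, ⟨0, 0⟩, ⟨0, 0⟩, ⟨0, 0⟩, ⟨-2, 0⟩, ⟨0, 0⟩, ⟨-2, 0⟩]]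

/-- The generalised character fixing the degrees modulo `128`. -/
def phi : Fin 16 → ℤ := ![15, 47, 7, 3, -1, -1, -3, 0, 8, 0, -2, -2, 0, 2, 0, 2]

/-- The coefficients of the congruence for the degrees. -/
def resCoef : Fin 7 → ℤ := ![18, 18, -5, -7, -63, 43, 6]

/-- The class in `A₅` below a class. -/
def five : Fin 16 → Fin 5 := ![0, 0, 0, 0, 1, 1, 1, 2, 2, 2, 2, 2, 3, 3, 4, 4]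

/-- The number of ways of writing an element as a product of two involutions. -/
def npairs : Fin 16 → ℕ := ![131, 130, 26, 28, 14, 8, 8, 12, 12, 12, 0, 0, 10, 10, 10, 10]

/-- The class in `A₅` of a permutation code. -/
def fiveA : Fin 60 → Fin 5 := ![0, 2, 2, 1, 2, 2, 2, 2, 1, 2, 2, 1, 1, 1, 1, 2, 3, 4, 3, 2, 4, 4, 2, 3, 2, 4, 3, 1, 2, 2, 1, 4, 4, 1, 3, 3, 4, 2, 3, 2, 2, 1, 3, 1, 3, 4, 4, 1, 3, 2, 4, 2, 2, 1, 4, 1, 4, 3, 3, 1]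

end CfsgLib.JankoThree
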